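import Groth.Prelude.Def_ArtFun4
import Mathlib.Algebra.Category.Ring.Constructions
import Mathlib.RingTheory.Flat.Basic
import Mathlib.RingTheory.Flat.Tensor
import Mathlib.RingTheory.MvPolynomial.Basic
import Mathlib.RingTheory.MvPolynomial.Ideal

/-!
Hypersurface families over Artinian rings as deformations.
-/

set_option autoImplicit false

universe u

open CategoryTheory CategoryTheory.Limits AlgebraicGeometry
open scoped TensorProduct

namespace Groth.Agent.NodeDef

variable {σ : Type} {R R' : Type u} [CommRing R] [CommRing R']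

/-- The quotient by one relation. -/
abbrev Q (f : MvPolynomial σ R) : Type u := MvPolynomial σ R ⧸ Ideal.span {f}

/-- The map of quotients induced by a change of coefficients. -/
noncomputable def qmap (g : R →+* R') {f : MvPolynomial σ R} {f' : MvPolynomial σ R'} (h : MvPolynomial.map g f = f') :
    Q f →+* Q f' :=
  Ideal.quotientMap _ (MvPolynomial.map g) (by
    rw [Ideal.span_singleton_le_iff_mem, Ideal.mem_comap, h]
    exact Ideal.mem_span_singleton_self _)

theorem qmap_mk (g : R →+* R') {f : MvPolynomial σ R} {f' : MvPolynomial σ R'} (h : MvPolynomial.map g f = f')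
    (p : MvPolynomial σ R) : qmap g h (Ideal.Quotient.mk _ p) = Ideal.Quotient.mk _ (MvPolynomial.map g p) := rfl

theorem qmap_algebraMap (g : R →+* R') {f : MvPolynomial σ R} {f' : MvPolynomial σ R'} (h : MvPolynomial.map g f = f')
    (r : R) : qmap g h (algebraMap R (Q f) r) = algebraMap R' (Q f') (g r) := by
  change Ideal.Quotient.mk _ (MvPolynomial.map g (MvPolynomial.C r)) = _
  rw [MvPolynomial.map_C]
  rfl

theorem isPushout_qmap (g : R →+* R') {f : MvPolynomial σ R} {f' : MvPolynomial σ R'} (h : MvPolynomial.map g f = f') :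
    IsPushout (CommRingCat.ofHom (algebraMap R (Q f))) (CommRingCat.ofHom g)
      (CommRingCat.ofHom (qmap g h)) (CommRingCat.ofHom (algebraMap R' (Q f'))) := by
  refine IsPushout.of_isColimit' ⟨CommRingCat.hom_ext (RingHom.ext fun r => qmap_algebraMap g h r)⟩ ?_
  let ev : ∀ s : PushoutCocone (CommRingCat.ofHom (algebraMap R (Q f))) (CommRingCat.ofHom g), MvPolynomial σ R' →+* s.pt :=
    fun s => MvPolynomial.eval₂Hom s.inr.hom fun i => s.inl.hom (Ideal.Quotient.mk _ (MvPolynomial.X i))
  have hev : ∀ s, (ev s).comp (MvPolynomial.map g) = s.inl.hom.comp (Ideal.Quotient.mk _) := fun s => by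
    refine MvPolynomial.ringHom_ext (fun r => ?_) fun i => ?_
    · rw [RingHom.comp_apply, MvPolynomial.map_C, MvPolynomial.eval₂Hom_C]
      exact (congrArg (fun t : CommRingCat.of R ⟶ s.pt => t.hom r) s.condition).symm
    · rw [RingHom.comp_apply, MvPolynomial.map_X, MvPolynomial.eval₂Hom_X']
      rfl
  refine PushoutCocone.IsColimit.mk _ (fun s => CommRingCat.ofHom (Ideal.Quotient.lift _ (ev s) fun a ha => ?_))
    (fun s => CommRingCat.hom_ext (Ideal.Quotient.ringHom_ext ?_)) (fun s => ?_) fun s m h₁ h₂ => ?_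
  · obtain ⟨c, rfl⟩ := Ideal.mem_span_singleton.1 ha
    rw [map_mul, ← h, ← RingHom.comp_apply (ev s), hev, RingHom.comp_apply,
      Ideal.Quotient.eq_zero_iff_mem.2 (Ideal.mem_span_singleton_self f), map_zero, zero_mul]
  · exact hev s
  · refine CommRingCat.hom_ext (RingHom.ext fun r => ?_)
    exact MvPolynomial.eval₂Hom_C (R := R') s.inr.hom _ r
  · refine CommRingCat.hom_ext (Ideal.Quotient.ringHom_ext (MvPolynomial.ringHom_ext (fun r => ?_) fun i => ?_))
    · exact (congrArg (fun t : CommRingCat.of R' ⟶ s.pt => t.hom r) h₂).trans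
        (MvPolynomial.eval₂Hom_C (R := R') s.inr.hom _ r).symm
    · have := congrArg (fun t : CommRingCat.of (Q f) ⟶ s.pt => t.hom (Ideal.Quotient.mk _ (MvPolynomial.X i))) h₁
      simp only [CommRingCat.hom_comp, CommRingCat.hom_ofHom, RingHom.comp_apply, qmap_mk, MvPolynomial.map_X] at this
      exact this.trans (MvPolynomial.eval₂Hom_X' (R := R') s.inr.hom
        (fun j => s.inl.hom (Ideal.Quotient.mk (Ideal.span {f}) (MvPolynomial.X j))) i).symm

theorem mem_map_C_of_mul (I : Ideal R) (c : R) (hc : IsNilpotent c) (d : σ →₀ ℕ) (x : MvPolynomial σ R)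
    (hx : (MvPolynomial.monomial d 1 - MvPolynomial.C c) * x ∈ I.map MvPolynomial.C) : x ∈ I.map MvPolynomial.C := by
  obtain ⟨n, hn⟩ := hc
  have hpow : MvPolynomial.monomial d (1 : R) ^ n * x ∈ I.map MvPolynomial.C := by
    obtain ⟨e, he⟩ := sub_dvd_pow_sub_pow (MvPolynomial.monomial d (1 : R)) (MvPolynomial.C c) n
    rw [← map_pow MvPolynomial.C, hn, map_zero, sub_zero] at he
    rw [he, mul_right_comm]
    exact Ideal.mul_mem_right _ _ hx
  rw [MvPolynomial.mem_map_C_iff] at hpow ⊢
  intro m
  have := hpow (n • d + m)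
  rwa [MvPolynomial.monomial_pow, one_pow, MvPolynomial.coeff_monomial_mul, one_mul] at this

theorem flat_Q (c : R) (hc : IsNilpotent c) (d : σ →₀ ℕ) (f : MvPolynomial σ R)
    (hf : f = MvPolynomial.monomial d 1 - MvPolynomial.C c) : Module.Flat R (Q f) := by
  refine Module.Flat.iff_rTensor_injective'.2 fun I => ?_
  rw [injective_iff_map_eq_zero]
  intro z hz
  let q : MvPolynomial σ R →ₗ[R] Q f := (Ideal.Quotient.mkₐ R (Ideal.span {f})).toLinearMap
  obtain ⟨t, rfl⟩ := LinearMap.lTensor_surjective (g := q) I Ideal.Quotient.mk_surjective z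
  set y := TensorProduct.lid R (MvPolynomial σ R) (I.subtype.rTensor _ t) with hy
  have hyI : y ∈ I.map MvPolynomial.C := by
    rw [hy]
    clear hz hy y
    induction t using TensorProduct.induction_on with
    | zero => simp
    | tmul r m =>
      simp only [LinearMap.rTensor_tmul, TensorProduct.lid_tmul, Submodule.coe_subtype, MvPolynomial.smul_eq_C_mul]
      exact Ideal.mul_mem_right _ _ (Ideal.mem_map_of_mem _ r.2)
    | add a b ha hb => simp only [map_add]; exact add_mem ha hb
  have hnat : TensorProduct.lid R _ (I.subtype.rTensor _ (q.lTensor I t)) = q y := by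
    rw [hy]
    clear hz hy hyI y
    induction t using TensorProduct.induction_on with
    | zero => simp
    | tmul r m => simp
    | add a b ha hb => simp only [map_add, ha, hb]
  rw [hz, map_zero] at hnat
  obtain ⟨x, hx⟩ := Ideal.mem_span_singleton.1 (Ideal.Quotient.eq_zero_iff_mem.1 hnat.symm)
  have hxI : x ∈ I.map MvPolynomial.C := mem_map_C_of_mul I c hc d x (by rw [← hf, ← hx]; exact hyI)
  have hinj : Function.Injective (I.subtype.rTensor (MvPolynomial σ R)) :=
    Module.Flat.rTensor_preserves_injective_linearMap I.subtype I.injective_subtype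
  suffices ∃ s : (I : Submodule R R) ⊗[R] MvPolynomial σ R,
      TensorProduct.lid R _ (I.subtype.rTensor _ s) = y ∧ q.lTensor I s = 0 by
    obtain ⟨s, hs, hs0⟩ := this
    rwa [hinj ((TensorProduct.lid R _).injective (hs.trans hy).symm)]
  obtain ⟨s, hs⟩ : ∃ s : (I : Submodule R R) ⊗[R] MvPolynomial σ R,
      TensorProduct.lid R _ (I.subtype.rTensor _ s) = x := by
    have hxI' : x ∈ I • (⊤ : Submodule R (MvPolynomial σ R)) := by
      rw [Ideal.smul_top_eq_map]
      exact hxI
    refine Submodule.smul_induction_on hxI' (fun r hr n _ => ⟨⟨r, hr⟩ ⊗ₜ n, by simp⟩) ?_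
    rintro _ _ ⟨y, rfl⟩ ⟨z, rfl⟩
    exact ⟨y + z, by simp⟩
  refine ⟨(LinearMap.mulLeft R f).lTensor I s, ?_, ?_⟩
  · rw [hx, ← hs]
    clear hs hxI hx
    induction s using TensorProduct.induction_on with
    | zero => simp
    | tmul r m => simp
    | add a b ha hb => simp only [map_add, mul_add, ha, hb]
  · rw [← LinearMap.comp_apply, ← LinearMap.lTensor_comp,
      show q ∘ₗ LinearMap.mulLeft R f = 0 from LinearMap.ext fun m => Ideal.Quotient.eq_zero_iff_mem.2
        (Ideal.mul_mem_right _ _ (Ideal.mem_span_singleton_self f)), LinearMap.lTensor_zero, LinearMap.zero_apply]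

end Groth.Agent.NodeDef
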