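import Groth.Agent.Lib.NodeDef.Affine
import Mathlib.RingTheory.HopkinsLevitzki
import Mathlib.RingTheory.Artinian.Module

/-!
Deformations `xy = c` of the node.
-/

set_option autoImplicit false

universe u

open CategoryTheory CategoryTheory.Limits AlgebraicGeometry

namespace Groth.Agent.NodeDef

open ArtFun

variable {k : Type u} [Field k]

variable (k) in
/-- The node. -/
noncomputable abbrev node : MvPolynomial (Fin 2) k := MvPolynomial.X 0 * MvPolynomial.X 1

/-- The equation `xy - c`. -/
noncomputable abbrev eqn {R : Type u} [CommRing R] (c : R) : MvPolynomial (Fin 2) R :=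
  MvPolynomial.X 0 * MvPolynomial.X 1 - MvPolynomial.C c

theorem map_eqn {R R' : Type u} [CommRing R] [CommRing R'] (g : R →+* R') {c : R} {c' : R'} (h : g c = c') :
    MvPolynomial.map g (eqn c) = eqn c' := by
  rw [map_sub, map_mul, MvPolynomial.map_X, MvPolynomial.map_X, MvPolynomial.map_C, h]

theorem map_eqn_res {A : Art k k} {c : A} (hc : A.res c = 0) : MvPolynomial.map A.res.toRingHom (eqn c) = node k := by
  rw [map_eqn A.res.toRingHom (c' := 0) hc, eqn, map_zero, sub_zero]

theorem comp_eq_algebraMap {A : Art k k} {c : A} (hc : A.res c = 0) :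
    (qmap A.res.toRingHom (map_eqn_res hc)).comp (algebraMap A (Q (eqn c))) =
      (algebraMap k (Q (node k))).comp A.res.toRingHom :=
  RingHom.ext fun r => qmap_algebraMap A.res.toRingHom (map_eqn_res hc) r

/-- The deformation `xy = c`. -/
@[reducible] noncomputable def defn {A : Art k k} (c : A) (hc : A.res c = 0) :
    DefSch (Spec (CommRingCat.of (Q (node k)))) (Spec.map (CommRingCat.ofHom (algebraMap k (Q (node k))))) A where
  total := Spec (CommRingCat.of (Q (eqn c)))
  f := Spec.map (CommRingCat.ofHom (algebraMap A (Q (eqn c))))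
  flat := by
    rw [HasRingHomProperty.Spec_iff (P := @Flat), CommRingCat.hom_ofHom, RingHom.flat_algebraMap_iff]
    obtain ⟨n, hn⟩ := (isArtinianRing_iff_isNilpotent_maximalIdeal A).1 inferInstance
    refine flat_Q c ⟨n, ?_⟩ (Finsupp.single 0 1 + Finsupp.single 1 1) _ ?_
    · have := Ideal.pow_mem_pow ((A.mem_maximalIdeal_iff c).2 hc) n
      rw [hn] at this
      exact Ideal.mem_bot.1 this
    · rw [eqn, MvPolynomial.X, MvPolynomial.X, MvPolynomial.monomial_mul, mul_one]
  i := Spec.map (CommRingCat.ofHom (qmap A.res.toRingHom (map_eqn_res hc)))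
  isPullback := isPullback_SpecMap_of_isPushout _ _ _ _ (isPushout_qmap A.res.toRingHom (map_eqn_res hc))

theorem qmap_comp {A B : Art k k} (g : A ⟶ B) {c : A} {c' : B} (hc : A.res c = 0) (hc' : B.res c' = 0)
    (h : g c = c') :
    (qmap B.res.toRingHom (map_eqn_res hc')).comp (qmap g.toAlgHom.toRingHom (map_eqn g.toAlgHom.toRingHom h)) =
      qmap A.res.toRingHom (map_eqn_res hc) := by
  refine Ideal.Quotient.ringHom_ext (RingHom.ext fun p => ?_)
  simp only [RingHom.comp_apply, qmap_mk, MvPolynomial.map_map]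
  exact congrArg (fun φ => Ideal.Quotient.mk _ (MvPolynomial.map φ p)) (congrArg AlgHom.toRingHom g.res_comp)

/-- Base change of `xy = c` is `xy = g c`. -/
noncomputable def baseChangeIso {A B : Art k k} (g : A ⟶ B) {c : A} {c' : B} (hc : A.res c = 0)
    (hc' : B.res c' = 0) (h : g c = c') : ((defn c hc).baseChange g).Iso (defn c' hc') :=
  let P : IsPullback (Spec.map (CommRingCat.ofHom (qmap g.toAlgHom.toRingHom (map_eqn g.toAlgHom.toRingHom h))))
      (defn c' hc').f (defn c hc).f (Art.specMap g) :=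
    isPullback_SpecMap_of_isPushout _ _ _ _ (isPushout_qmap g.toAlgHom.toRingHom (map_eqn g.toAlgHom.toRingHom h))
  { iso := (IsPullback.of_hasPullback (defn c hc).f (Art.specMap g)).isoIsPullback _ _ P
    hom_f := IsPullback.isoIsPullback_hom_snd _ _ _ _
    i_hom := by
      apply P.hom_ext
      · rw [Category.assoc, IsPullback.isoIsPullback_hom_fst, DefSch.baseChange_i_fst]
        change Spec.map _ = Spec.map _ ≫ Spec.map _
        rw [← Spec.map_comp, ← CommRingCat.ofHom_comp, qmap_comp g hc hc' h]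
      · rw [Category.assoc, IsPullback.isoIsPullback_hom_snd]
        exact (DefSch.baseChange_i_f (defn c hc) g).trans (defn c' hc').i_f.symm }

/-- Scaling the first coordinate. -/
noncomputable def scaleHom {R : Type u} [CommRing R] (u : Rˣ) {c c' : R} (h : c' = u * c) :
    Q (eqn c') →ₐ[R] Q (eqn c) :=
  Ideal.Quotient.liftₐ _ (MvPolynomial.aeval ![Ideal.Quotient.mk _ (MvPolynomial.C (u : R) * MvPolynomial.X 0),
      Ideal.Quotient.mk _ (MvPolynomial.X 1)]) fun a ha => by
    obtain ⟨b, rfl⟩ := Ideal.mem_span_singleton.1 ha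
    refine (map_mul _ _ _).trans (mul_eq_zero_of_left ?_ _)
    rw [map_sub, map_mul, MvPolynomial.aeval_X, MvPolynomial.aeval_X, MvPolynomial.aeval_C, h]
    change Ideal.Quotient.mk _ _ * Ideal.Quotient.mk _ _ - Ideal.Quotient.mk _ (MvPolynomial.C ((u : R) * c)) = 0
    rw [← map_mul, ← map_sub, map_mul, mul_assoc, ← mul_sub, map_mul]
    exact mul_eq_zero_of_right _ (Ideal.Quotient.eq_zero_iff_mem.2 (Ideal.mem_span_singleton_self _))

theorem scaleHom_X {R : Type u} [CommRing R] (u : Rˣ) {c c' : R} (h : c' = u * c) (i : Fin 2) :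
    scaleHom u h (Ideal.Quotient.mk _ (MvPolynomial.X i)) =
      Ideal.Quotient.mk _ (![MvPolynomial.C (u : R) * MvPolynomial.X 0, MvPolynomial.X 1] i) := by
  change MvPolynomial.aeval _ (MvPolynomial.X i) = _
  rw [MvPolynomial.aeval_X]
  fin_cases i <;> rfl

theorem scaleHom_comp {R : Type u} [CommRing R] (u v : Rˣ) {c c' : R} (h : c' = u * c) (h' : c = v * c')
    (huv : (u : R) * v = 1) : (scaleHom u h).comp (scaleHom v h') = AlgHom.id R (Q (eqn c)) := by
  refine Ideal.Quotient.algHom_ext R (MvPolynomial.algHom_ext fun i => ?_)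
  change scaleHom u h (scaleHom v h' (Ideal.Quotient.mk _ (MvPolynomial.X i))) = Ideal.Quotient.mk _ (MvPolynomial.X i)
  rw [scaleHom_X]
  fin_cases i
  · change scaleHom u h (Ideal.Quotient.mk _ (MvPolynomial.C (v : R) * MvPolynomial.X 0)) = _
    rw [map_mul, map_mul, scaleHom_X]
    have : scaleHom u h (Ideal.Quotient.mk _ (MvPolynomial.C (v : R))) = Ideal.Quotient.mk _ (MvPolynomial.C (v : R)) :=
      (scaleHom u h).commutes (v : R)
    rw [this]
    change Ideal.Quotient.mk _ (MvPolynomial.C (v : R)) * Ideal.Quotient.mk _ (MvPolynomial.C (u : R) * MvPolynomial.X 0) = _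
    rw [← map_mul, ← mul_assoc, ← map_mul, mul_comm (v : R), huv, map_one, one_mul]
    rfl
  · exact scaleHom_X u h 1

/-- `xy = uc` is isomorphic to `xy = c` for a unit `u` congruent to one. -/
noncomputable def scaleIso {A : Art k k} {c c' : A} (hc : A.res c = 0) (hc' : A.res c' = 0) (u : (A : Type u)ˣ)
    (hu : A.res u = 1) (h : c' = u * c) : (defn c hc).Iso (defn c' hc') :=
  have h' : c = (↑u⁻¹ : A) * c' := by rw [h, Units.inv_mul_cancel_left]
  let e : Q (eqn c') ≃ₐ[A] Q (eqn c) := AlgEquiv.ofAlgHom (scaleHom u h) (scaleHom u⁻¹ h')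
    (scaleHom_comp u u⁻¹ h h' (Units.mul_inv u)) (scaleHom_comp u⁻¹ u h' h (Units.inv_mul u))
  { iso :=
      { hom := Spec.map (CommRingCat.ofHom (scaleHom u h).toRingHom)
        inv := Spec.map (CommRingCat.ofHom (scaleHom u⁻¹ h').toRingHom)
        hom_inv_id := by
          rw [← Spec.map_comp, ← CommRingCat.ofHom_comp]
          exact (congrArg (fun φ : Q (eqn c) →ₐ[A] Q (eqn c) => Spec.map (CommRingCat.ofHom φ.toRingHom))
            (scaleHom_comp u u⁻¹ h h' (Units.mul_inv u))).trans (Spec.map_id _)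
        inv_hom_id := by
          rw [← Spec.map_comp, ← CommRingCat.ofHom_comp]
          exact (congrArg (fun φ : Q (eqn c') →ₐ[A] Q (eqn c') => Spec.map (CommRingCat.ofHom φ.toRingHom))
            (scaleHom_comp u⁻¹ u h' h (Units.inv_mul u))).trans (Spec.map_id _) }
    hom_f := by
      change Spec.map _ ≫ Spec.map _ = Spec.map _
      rw [← Spec.map_comp, ← CommRingCat.ofHom_comp]
      exact congrArg (fun φ => Spec.map (CommRingCat.ofHom φ)) (scaleHom u h).comp_algebraMap
    i_hom := by
      change Spec.map _ ≫ Spec.map _ = Spec.map _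
      rw [← Spec.map_comp, ← CommRingCat.ofHom_comp]
      refine congrArg (fun φ => Spec.map (CommRingCat.ofHom φ))
        (Ideal.Quotient.ringHom_ext (MvPolynomial.ringHom_ext (fun r => ?_) fun i => ?_))
      · change qmap _ (map_eqn_res hc) (scaleHom u h (algebraMap A (Q (eqn c')) r)) = qmap _ (map_eqn_res hc') (algebraMap A (Q (eqn c')) r)
        rw [AlgHom.commutes, qmap_algebraMap, qmap_algebraMap]
      · change qmap _ (map_eqn_res hc) (scaleHom u h (Ideal.Quotient.mk _ (MvPolynomial.X i))) = qmap _ (map_eqn_res hc') (Ideal.Quotient.mk _ (MvPolynomial.X i))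
        rw [scaleHom_X, qmap_mk, qmap_mk, MvPolynomial.map_X]
        fin_cases i
        · change Ideal.Quotient.mk _ (MvPolynomial.map A.res.toRingHom (MvPolynomial.C (u : A) * MvPolynomial.X 0)) = _
          rw [map_mul, MvPolynomial.map_C, MvPolynomial.map_X]
          change Ideal.Quotient.mk _ (MvPolynomial.C (A.res u) * MvPolynomial.X 0) = _
          rw [hu, map_one, one_mul]
          rfl
        · change Ideal.Quotient.mk _ (MvPolynomial.map A.res.toRingHom (MvPolynomial.X 1)) = _
          rw [MvPolynomial.map_X]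
          rfl }

/-- The obstruction: an isomorphism forces equality in a ring with `m² = 0`. -/
theorem eq_of_iso {A : Art k k} (hm : ∀ a b : A, A.res a = 0 → A.res b = 0 → a * b = 0) {c : A} (hc : A.res c = 0)
    (e : (defn (0 : A) (map_zero A.res)).Iso (defn c hc)) : c = 0 := by
  let φ : CommRingCat.of (Q (eqn c)) ⟶ CommRingCat.of (Q (eqn (0 : A))) := Spec.preimage e.iso.hom
  have hφ : Spec.map φ = e.iso.hom := Spec.map_preimage _
  have hf : CommRingCat.ofHom (algebraMap A (Q (eqn c))) ≫ φ = CommRingCat.ofHom (algebraMap A (Q (eqn (0 : A)))) :=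
    Spec.map_injective (by rw [Spec.map_comp, hφ]; exact e.hom_f)
  have hi : φ ≫ CommRingCat.ofHom (qmap A.res.toRingHom (map_eqn_res (map_zero A.res))) =
      CommRingCat.ofHom (qmap A.res.toRingHom (map_eqn_res hc)) :=
    Spec.map_injective (by rw [Spec.map_comp, hφ]; exact e.i_hom)
  let ev : Q (eqn (0 : A)) →+* A := Ideal.Quotient.lift _ (MvPolynomial.eval fun _ => 0) fun a ha => by
    obtain ⟨b, rfl⟩ := Ideal.mem_span_singleton.1 ha
    simp [eqn]
  let ev0 : Q (node k) →+* k := Ideal.Quotient.lift _ (MvPolynomial.eval fun _ => 0) fun a ha => by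
    obtain ⟨b, rfl⟩ := Ideal.mem_span_singleton.1 ha
    simp [node]
  have hev : A.res.toRingHom.comp ev = ev0.comp (qmap A.res.toRingHom (map_eqn_res (map_zero A.res))) := by
    refine Ideal.Quotient.ringHom_ext (MvPolynomial.ringHom_ext (fun r => ?_) fun i => ?_) <;>
      simp [ev, ev0, qmap_mk]
  have hX : ∀ i, A.res (ev (φ.hom (Ideal.Quotient.mk _ (MvPolynomial.X i)))) = 0 := fun i => by
    have h1 := congrArg (fun t : CommRingCat.of (Q (eqn c)) ⟶ CommRingCat.of (Q (node k)) =>
      ev0 (t.hom (Ideal.Quotient.mk _ (MvPolynomial.X i)))) hi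
    refine ((RingHom.congr_fun hev _).trans h1).trans ?_
    simp [ev0, qmap_mk]
  have h0 := hm _ _ (hX 0) (hX 1)
  rw [← map_mul, ← map_mul, ← map_mul, show Ideal.Quotient.mk (Ideal.span {eqn c}) (MvPolynomial.X 0 * MvPolynomial.X 1) =
    algebraMap A (Q (eqn c)) c from Ideal.Quotient.eq.2 (Ideal.mem_span_singleton_self _)] at h0
  have h2 := congrArg (fun t : CommRingCat.of A ⟶ CommRingCat.of (Q (eqn (0 : A))) => ev (t.hom c)) hf
  exact (h2.trans ((Ideal.Quotient.lift_mk _ _ _).trans (MvPolynomial.eval_C c))).symm.trans h0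

end Groth.Agent.NodeDef
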