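import Groth.Prelude.Def_ArtFun
import Mathlib.RingTheory.LocalRing.Pullback
import Mathlib.RingTheory.AdjoinRoot
import Mathlib.RingTheory.Polynomial.Quotient

/-!
`k[t]/t³` and its fibre product with the dual numbers.
-/

set_option autoImplicit false

universe u

open Polynomial

namespace Groth.Agent.NodeDef

open ArtFun

variable (k : Type u) [Field k]

/-- `k[t]/t³`. -/
abbrev T3 : Type u := AdjoinRoot ((X : k[X]) ^ 3)

/-- Evaluation at zero. -/
noncomputable def resT3 : T3 k →ₐ[k] k :=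
  AdjoinRoot.liftAlgHom ((X : k[X]) ^ 3) (Algebra.ofId k k) 0 (by simp)

/-- The class of `t`. -/
noncomputable abbrev tt : T3 k := AdjoinRoot.root ((X : k[X]) ^ 3)

theorem tt_pow : tt k ^ 3 = 0 := by
  rw [tt, ← AdjoinRoot.mk_X, ← map_pow, AdjoinRoot.mk_self]

theorem resT3_tt : resT3 k (tt k) = 0 := AdjoinRoot.liftAlgHom_root ..

theorem exists_eq_tt_mul (a : T3 k) : ∃ b, a = algebraMap k _ (resT3 k a) + tt k * b := by
  obtain ⟨p, rfl⟩ := AdjoinRoot.mk_surjective a
  refine ⟨AdjoinRoot.mk _ p.divX, ?_⟩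
  have h : resT3 k (AdjoinRoot.mk _ p) = p.coeff 0 := by
    rw [resT3, AdjoinRoot.liftAlgHom_mk]
    exact Polynomial.eval₂_at_zero _ |>.trans rfl
  rw [h, tt, ← AdjoinRoot.mk_X, AdjoinRoot.algebraMap_eq, ← AdjoinRoot.mk_C, ← map_mul, ← map_add, add_comm,
    X_mul_divX_add]

theorem isNilpotent_of_res {a : T3 k} (h : resT3 k a = 0) : a ^ 3 = 0 := by
  obtain ⟨b, hb⟩ := exists_eq_tt_mul k a
  rw [h, map_zero, zero_add] at hb
  rw [hb, mul_pow, tt_pow, zero_mul]

theorem mul_tt_sq (a : T3 k) : a * tt k ^ 2 = algebraMap k _ (resT3 k a) * tt k ^ 2 := by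
  obtain ⟨b, hb⟩ := exists_eq_tt_mul k a
  conv_lhs => rw [hb]
  rw [add_mul, show tt k * b * tt k ^ 2 = b * tt k ^ 3 by ring, tt_pow, mul_zero, add_zero]

theorem tt_sq_ne_zero : tt k ^ 2 ≠ 0 := by
  rw [tt, ← AdjoinRoot.mk_X, ← map_pow]
  refine AdjoinRoot.mk_ne_zero_of_natDegree_lt (monic_X_pow 3) (pow_ne_zero 2 X_ne_zero) ?_
  simp

theorem isLocalRing_of_nil {R : Type u} [CommRing R] [Nontrivial R] [Algebra k R] (res : R →ₐ[k] k)
    (h : ∀ a, res a = 0 → IsNilpotent a) : IsLocalRing R := by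
  refine IsLocalRing.of_isUnit_or_isUnit_one_sub_self fun a => ?_
  by_cases ha : res a = 0
  · exact Or.inr (h a ha).isUnit_one_sub
  · left
    have hn : IsNilpotent (a - algebraMap k R (res a)) := h _ (by simp)
    have := (hn.isUnit_add_right_of_commute (((Ne.isUnit ha).map (algebraMap k R))) (Commute.all _ _))
    rwa [sub_add_cancel] at this

instance : Nontrivial (T3 k) := (resT3 k).toRingHom.domain_nontrivial

instance : IsLocalRing (T3 k) := isLocalRing_of_nil k (resT3 k) fun _ h => ⟨3, isNilpotent_of_res k h⟩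

instance : Module.Finite k (T3 k) := (monic_X_pow 3).finite_adjoinRoot

instance : IsArtinianRing (T3 k) := IsArtinianRing.of_finite k _

/-- `k[t]/t³` as an object. -/
noncomputable abbrev artT3 : Art k k :=
  Art.of (T3 k) (resT3 k) fun a => ⟨algebraMap k _ a, (resT3 k).commutes a⟩

/-- The fibre product `k[t]/t³ ×_k k[ε]`. -/
noncomputable abbrev TE : Subalgebra k (T3 k × DualNumber k) :=
  (resT3 k).pullback (TrivSqZeroExt.fstHom k k k)

theorem mem_TE (z : T3 k × DualNumber k) : z ∈ TE k ↔ resT3 k z.1 = z.2.fst := Iff.rfl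

/-- The augmentation. -/
noncomputable def resTE : TE k →ₐ[k] k := (resT3 k).comp ((AlgHom.fst k _ _).comp (TE k).val)

theorem isNilpotent_TE {z : TE k} (h : resTE k z = 0) : IsNilpotent z := by
  refine ⟨3, Subtype.ext (Prod.ext (isNilpotent_of_res k h) ?_)⟩
  have h2 : z.1.2.fst = 0 := ((mem_TE k z.1).1 z.2).symm.trans h
  change z.1.2 ^ 3 = 0
  rw [pow_succ, pow_two, show z.1.2 * z.1.2 = 0 from TrivSqZeroExt.ext (by simp [h2]) (by simp [h2]), zero_mul]

instance : IsLocalRing (TE k) :=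
  haveI : Nontrivial (TE k) := (resTE k).toRingHom.domain_nontrivial
  isLocalRing_of_nil k (resTE k) fun _ h => isNilpotent_TE k h

instance : IsArtinianRing (TE k) :=
  haveI : Module.Finite k (DualNumber k) := inferInstanceAs (Module.Finite k (k × k))
  haveI : Module.Finite k (TE k) := Module.Finite.of_injective (TE k).val.toLinearMap Subtype.val_injective
  IsArtinianRing.of_finite k _

/-- The fibre product as an object. -/
noncomputable abbrev artTE : Art k k :=
  Art.of (TE k) (resTE k) fun a => ⟨algebraMap k _ a, (resTE k).commutes a⟩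

/-- First projection. -/
noncomputable def pr1 : artTE k ⟶ artT3 k := ⟨(AlgHom.fst k _ _).comp (TE k).val, rfl⟩

/-- `(a, e) ↦ a + e₁ t²`. -/
noncomputable def pr2Alg : TE k →ₐ[k] T3 k :=
    { toFun := fun z => z.1.1 + algebraMap k (T3 k) z.1.2.snd * tt k ^ 2
      map_one' := by simp
      map_zero' := by simp
      map_add' := fun y z => by simp [add_mul]; abel
      commutes' := fun r => by simp [TrivSqZeroExt.algebraMap_eq_inl]
      map_mul' := fun y z => by
        have e1 : resT3 k y.1.1 = y.1.2.fst := (mem_TE k y.1).1 y.2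
        have e2 : resT3 k z.1.1 = z.1.2.fst := (mem_TE k z.1).1 z.2
        have ht : (tt k ^ 2) * (tt k ^ 2) = 0 := by rw [← pow_add, pow_succ, tt_pow, zero_mul]
        have m1 := mul_tt_sq k y.1.1
        have m2 := mul_tt_sq k z.1.1
        rw [e1] at m1
        rw [e2] at m2
        simp only [Subalgebra.coe_mul, Prod.fst_mul, Prod.snd_mul, TrivSqZeroExt.snd_mul, smul_eq_mul,
          op_smul_eq_smul, map_add, map_mul]
        linear_combination (-(algebraMap k (T3 k) z.1.2.snd)) * m1 + (-(algebraMap k (T3 k) y.1.2.snd)) * m2 -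
          (algebraMap k (T3 k) y.1.2.snd * algebraMap k (T3 k) z.1.2.snd) * ht }

/-- The second projection. -/
noncomputable def pr2 : artTE k ⟶ artT3 k where
  toAlgHom := pr2Alg k
  res_comp := AlgHom.ext fun (z : TE k) => by
    change resT3 k (z.1.1 + algebraMap k (T3 k) z.1.2.snd * tt k ^ 2) = resT3 k z.1.1
    simp [resT3_tt]

theorem pr_jointly_injective {y z : TE k} (h1 : pr1 k y = pr1 k z) (h2 : pr2 k y = pr2 k z) : y = z := by
  have h1' : y.1.1 = z.1.1 := h1
  have h2' : y.1.1 + algebraMap k (T3 k) y.1.2.snd * tt k ^ 2 = z.1.1 + algebraMap k (T3 k) z.1.2.snd * tt k ^ 2 := h2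
  rw [h1', add_right_inj, ← sub_eq_zero, ← sub_mul, ← map_sub, ← Algebra.smul_def, smul_eq_zero] at h2'
  refine Subtype.ext (Prod.ext h1' (TrivSqZeroExt.ext ?_ (sub_eq_zero.1 (h2'.resolve_right (tt_sq_ne_zero k)))))
  rw [← (mem_TE k y.1).1 y.2, ← (mem_TE k z.1).1 z.2, h1']

/-- Second projection. -/
noncomputable def prE : artTE k ⟶ Art.dual k k where
  toAlgHom := (AlgHom.snd k _ _).comp (TE k).val
  res_comp := AlgHom.ext fun z => ((mem_TE k z.1).1 z.2).symm

/-- `(t, cε)`. -/
noncomputable def elt (c : k) : artTE k := ⟨(tt k, TrivSqZeroExt.inr c), (mem_TE k _).2 (by simp [resT3_tt])⟩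

theorem res_elt (c : k) : (artTE k).res (elt k c) = 0 := resT3_tt k

end Groth.Agent.NodeDef
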